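/-
Project NS3: the action on `L` and the wreathed configuration.
-/
import Cfsg.Agent.NS3.Basic

set_option autoImplicit false
set_option linter.unusedSectionVars false
open Cfsg Subgroup CL.Even CL.Grp CL.Wr
open scoped commutatorElement

namespace CL.NS

universe u

theorem actB : ActB.{u} := by
  classical
  intro Γ _ _ d Th G _ K ψ m hK h hm hs hk
  have cen1 : ∀ x ∈ K, x ∈ 𝒞(K) → ψ x = 1 := fun x hx hc =>
    m.cL _ (m.L_le (hm x hx)) (mem_cent.2 fun y hy => by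
      obtain ⟨x', hx', rfl⟩ := hs y hy
      exact h.mul_comm hx' hx (mem_cent.1 hc x' hx'))
  have wd : ∀ n ∈ 𝒩(K), ∀ x ∈ K, ∀ y ∈ K, ψ x = ψ y → ψ (n * x * n⁻¹) = ψ (n * y * n⁻¹) :=
    fun n hn x hx y hy e => by
      have k := mul_mem (inv_mem hx) hy
      rw [h.eq_iff (conj_mem hn hx) (conj_mem hn hy),
        show (n * x * n⁻¹)⁻¹ * (n * y * n⁻¹) = n * (x⁻¹ * y) * n⁻¹ by group]
      exact cen1 _ (conj_mem hn k) (conj_mem (norm_le_norm_cent K hn) (hk _ k ((h.eq_iff hx hy).1 e)))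
  choose s s1 s2 using hs
  have ex : ∀ n ∈ 𝒩(K), ∃ c ∈ d.C, ∀ x ∈ K, ψ (n * x * n⁻¹) = c * ψ x * c⁻¹ := fun n hn => by
    let α : d.L →* d.L := MonoidHom.mk' (fun y => ⟨ψ (n * s y y.2 * n⁻¹), hm _ (conj_mem hn (s1 _ _))⟩)
      fun y y' => Subtype.ext (by
        change ψ (n * s (y * y' : d.L) _ * n⁻¹) = ψ (n * s y _ * n⁻¹) * ψ (n * s y' _ * n⁻¹)
        rw [← h _ (conj_mem hn (s1 _ _)) _ (conj_mem hn (s1 _ _)),
          show n * s y y.2 * n⁻¹ * (n * s y' y'.2 * n⁻¹) = n * (s y y.2 * s y' y'.2) * n⁻¹ by group]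
        refine wd n hn _ (s1 _ _) _ (mul_mem (s1 _ _) (s1 _ _)) ?_
        rw [h _ (s1 _ _) _ (s1 _ _), s2, s2, s2]; rfl)
    have inj : Function.Injective α := (injective_iff_map_eq_one α).2 fun y hy => by
      have e : ψ (n * s y y.2 * n⁻¹) = ψ 1 := (congrArg Subtype.val hy).trans h.one.symm
      have := wd _ (inv_mem hn) _ (conj_mem hn (s1 _ _)) _ (one_mem _) e
      rw [show n⁻¹ * (n * s y y.2 * n⁻¹) * n⁻¹⁻¹ = s y y.2 by group, s2,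
        show n⁻¹ * 1 * n⁻¹⁻¹ = 1 by group, h.one] at this
      exact Subtype.ext this
    obtain ⟨c, hc, e⟩ := m.aut (MulEquiv.ofBijective α (Finite.injective_iff_bijective.1 inj))
    refine ⟨c, hc, fun x hx => ?_⟩
    have := e ⟨ψ x, hm x hx⟩
    refine Eq.trans ?_ this
    exact wd n hn _ hx _ (s1 _ (hm x hx)) (s2 _ _).symm
  have uq : ∀ c ∈ d.C, ∀ c' ∈ d.C, (∀ x ∈ K, c * ψ x * c⁻¹ = c' * ψ x * c'⁻¹) → c = c' := fun c hc c' hc' e => by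
    have := m.cL _ (mul_mem (inv_mem hc') hc) (mem_cent.2 fun y hy => by
      have := e _ (s1 y hy)
      rw [s2] at this
      calc y * (c'⁻¹ * c) = c'⁻¹ * (c' * y * c'⁻¹) * c := by group
        _ = _ := by rw [← this]; group)
    exact (inv_mul_eq_one.1 this).symm
  choose! ρ r1 r2 using ex
  have KN : K ≤ 𝒩(K) := le_norm_of_le le_rfl
  refine ⟨ρ, fun n hn n' hn' => ?_, r1, fun n hn => ⟨fun e => ?_, fun e => ?_⟩, fun x hx => ?_⟩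
  · refine uq _ (r1 _ (mul_mem hn hn')) _ (mul_mem (r1 n hn) (r1 n' hn')) fun x hx => ?_
    rw [← r2 _ (mul_mem hn hn') x hx, show n * n' * x * (n * n')⁻¹ = n * (n' * x * n'⁻¹) * n⁻¹ by group,
      r2 n hn _ (conj_mem hn' hx), r2 n' hn' x hx]
    group
  · refine mem_cent_of_perfect hK fun x hx => ?_
    have k := mul_mem (conj_mem hn hx) (inv_mem hx)
    refine ⟨k, hk _ k ?_⟩
    rw [h _ (conj_mem hn hx) _ (inv_mem hx), r2 n hn x hx, e, h.inv hx]; group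
  · refine uq _ (r1 n hn) _ (one_mem _) fun x hx => ?_
    rw [← r2 n hn x hx, conj_eq_of_mem e hx]; group
  · refine uq _ (r1 x (KN hx)) _ (m.L_le (hm x hx)) fun y hy => ?_
    rw [← r2 x (KN hx) y hy, h.conj hx hy]

theorem rhB : RhB.{u} := by
  classical
  intro Γ _ _ d Th G _ _ L m ⟨e⟩
  let ψ : G → Γ := fun x => if h : x ∈ L then (e ⟨x, h⟩ : Γ) else 1
  have hψ : ∀ x : L, ψ x = e x := fun x => dif_pos x.2
  have mo : MulOn L ψ := fun x hx y hy => by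
    have := hψ (⟨x, hx⟩ * ⟨y, hy⟩)
    rw [map_mul, coe_mul, coe_mul, ← hψ, ← hψ] at this
    exact this
  have k0 : ∀ x ∈ L, ψ x = 1 → x = 1 := fun x hx h => by
    rw [hψ ⟨x, hx⟩] at h
    exact congrArg Subtype.val (e.injective ((Subtype.ext h).trans (map_one e).symm))
  have k1 : ∀ x ∈ L, ψ x ∈ d.L := fun x hx => by rw [hψ ⟨x, hx⟩]; exact Subtype.property _
  have k2 : ∀ y ∈ d.L, ∃ x ∈ L, ψ x = y := fun y hy => by
    obtain ⟨x, k⟩ := e.surjective ⟨y, hy⟩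
    exact ⟨x, x.2, by rw [hψ, k]⟩
  have perf : L ≤ ⁅L, L⁆ := fun x hx => by
    have h1 : d.L ≤ mo.img L := fun y hy => let ⟨x, a, b⟩ := k2 y hy; b ▸ mo.mem_img_of a a
    have h2 := commutator_mono h1 h1 (m.perf (k1 x hx))
    rw [← mo.img_comm le_rfl le_rfl] at h2
    obtain ⟨y, a, b, c⟩ := mo.mem_img.1 h2
    rwa [← inv_mul_eq_one.1 (k0 _ (mul_mem (inv_mem b) hx) ((mo.eq_iff b hx).1 c))]
  obtain ⟨ρ, r1, r2, r3, r4⟩ := actB d Th L ψ m perf mo k1 k2 fun x hx h => k0 x hx h ▸ one_mem _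
  have inj : ∀ x ∈ L, x ∈ 𝒞(L) → x = 1 := fun x hx hc =>
    k0 x hx ((r4 x hx).symm.trans ((r3 x (le_norm_of_le le_rfl hx)).2 hc))
  refine ⟨ρ, ⟨r1, r2, r3, fun l hl => r4 l hl ▸ k1 l hl, fun y hy => ?_, perf, fun x hx hc => by
    rw [inj x hx hc, orderOf_one]; exact odd_one⟩, inj⟩
  obtain ⟨x, hx, k⟩ := k2 y hy
  exact ⟨x, hx, (r4 x hx).trans k⟩

theorem e1aB : E1aB.{u} := by
  intro Γ _ _ d Th G _ _ t L L₁ ρ m l w
  have ct : cj t (cj t L₁) = L₁ := by rw [← cj_mul, l.t_sq, cj_one]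
  have tt : ∀ x, t * (t * x * t⁻¹) * t⁻¹ = x := fun x => by
    rw [← mul_assoc, ← mul_assoc, l.t_sq, one_mul, mul_assoc, ← mul_inv_rev, l.t_sq, inv_one, mul_one]
  have sur : ∀ y ∈ d.L, ∃ x ∈ L₁, ρ (x * (t * x * t⁻¹)) = y := fun y hy => by
    obtain ⟨a, ha, rfl⟩ := l.surj y hy
    obtain ⟨x, hx, rfl⟩ := w.surj a ha
    exact ⟨x, hx, rfl⟩
  obtain ⟨p, p1, p2, p3, p4⟩ := actB d Th L₁ (fun x => ρ (x * (t * x * t⁻¹))) m w.perf
    (fun x hx y hy => (congrArg ρ (w.δ_mul hx hy)).trans (l.toRho.mulL _ (w.mem x hx) _ (w.mem y hy)))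
    (fun x hx => l.memL _ (w.mem x hx)) sur fun x hx e => w.cen_of_δ hx ((l.ker _ (le_normalizer (w.mem x hx))).1 e)
  set M := 𝒩(L₁) ⊓ 𝒩(cj t L₁) with hM
  have tM : t ∈ 𝒩(M) := cj_eq_iff_mem.1 (by rw [cj_inf, cj_norm, cj_norm, ct, inf_comm])
  have tG : t ∈ 𝒩(L₁ ⊔ cj t L₁) := cj_eq_iff_mem.1 (by rw [cj_sup, ct, sup_comm])
  have c1 := w.le_cent
  have GM : L₁ ⊔ cj t L₁ ≤ M := sup_le (le_inf le_normalizer ((le_centralizer_iff.1 c1).trans (cent_le_norm _)))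
    (le_inf (c1.trans (cent_le_norm _)) le_normalizer)
  have pM : MulOn M p := p1.mono inf_le_left
  have qM : MulOn M fun x => p (t * x * t⁻¹) := fun x hx y hy =>
    (congrArg p (conj_mul.symm)).trans (pM _ (conj_mem tM hx) _ (conj_mem tM hy))
  have kc : ∀ n ∈ M, p n = 1 → p (t * n * t⁻¹) = 1 → n ∈ 𝒞(L₁ ⊔ cj t L₁) := fun n hn e1 e2 => by
    rw [cent_sup, ← cj_cent]
    exact ⟨(p3 n hn.1).1 e1, tt n ▸ conj_mem_cj t ((p3 _ (conj_mem tM hn).1).1 e2)⟩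
  have p0 : ∀ x ∈ L₁, t * x * t⁻¹ ∈ 𝒩(L₁) ∧ p (t * x * t⁻¹) = 1 := fun x hx =>
    ⟨cent_le_norm _ (c1 (conj_mem_cj t hx)), (p3 _ (cent_le_norm _ (c1 (conj_mem_cj t hx)))).2 (c1 (conj_mem_cj t hx))⟩
  have pr : ∀ x ∈ L₁, ∀ y ∈ L₁, p (x * (t * y * t⁻¹)) = p x ∧ p (t * (x * (t * y * t⁻¹)) * t⁻¹) = p y :=
    fun x hx y hy => ⟨by rw [p1 x (le_normalizer hx) _ (p0 y hy).1, (p0 y hy).2, mul_one], by
      rw [← conj_mul, tt, p1 _ (p0 x hx).1 y (le_normalizer hy), (p0 x hx).2, one_mul]⟩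
  have gs : ∀ α ∈ d.L, ∀ β ∈ d.L, ∃ x ∈ L₁ ⊔ cj t L₁, p x = α ∧ p (t * x * t⁻¹) = β := fun α hα β hβ => by
    obtain ⟨x, hx, rfl⟩ := sur α hα
    obtain ⟨y, hy, rfl⟩ := sur β hβ
    exact ⟨_, mul_mem (mem_sup_left hx) (mem_sup_right (conj_mem_cj t hy)), (pr x hx y hy).1.trans (p4 x hx),
      (pr x hx y hy).2.trans (p4 y hy)⟩
  have tn : t ∉ M := fun e => by
    obtain ⟨a, ha, b, hb, ab⟩ := m.ne_comm
    obtain ⟨x, hx, e1⟩ := sur _ (m.T_le_L ha)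
    obtain ⟨y, hy, e2⟩ := sur _ (m.T_le_L hb)
    refine ab ?_
    rw [← e1, ← e2, ← p4 x hx, ← p4 y hy]
    exact p1.mul_comm (le_normalizer hx) (le_normalizer hy) (comm_of_mem (c1 ((cj_eq e.1).ge hy)) hx)
  have od : ∀ n ∈ 𝒞(L₁ ⊔ cj t L₁), Odd (orderOf n) := fun n hn => Nat.not_even_iff_odd.1 fun e => l.four (by
    have k := card_dvd_of_le (sup_le (cent_mono w.L_le) (zpowers_le.2 l.t_mem))
    rw [card_sup_inv l.t_sq (norm_le_norm_cent _ tG) fun e => tn (((cent_sup _ _).le.trans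
      (inf_le_inf (cent_le_norm _) (cent_le_norm _))) e)] at k
    exact (Nat.mul_dvd_mul_left 2 (e.two_dvd.trans (orderOf_dvd_natCard _ hn))).trans k)
  let N := pM.pre Th ⊓ qM.pre Th
  have mN : ∀ x, x ∈ N ↔ x ∈ M ∧ p x ∈ Th ∧ p (t * x * t⁻¹) ∈ Th := fun x =>
    ⟨fun e => ⟨(pM.mem_pre.1 e.1).1, (pM.mem_pre.1 e.1).2, (qM.mem_pre.1 e.2).2⟩, fun e =>
      ⟨pM.mem_pre.2 ⟨e.1, e.2.1⟩, qM.mem_pre.2 ⟨e.1, e.2.2⟩⟩⟩
  have NM : N ≤ M := fun x hx => ((mN x).1 hx).1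
  have tN : t ∈ 𝒩(N) := mem_norm_of fun x hx => (mN _).2 ⟨conj_mem tM (NM hx), ((mN x).1 hx).2.2,
    (tt x).symm ▸ ((mN x).1 hx).2.1⟩
  obtain ⟨P, hP, tP⟩ := exists_isSylowIn_ge (isPGroup_zpowers (p := 2) (k := 1) (by rw [pow_one, sq, l.t_sq]))
    (le_sup_right : zpowers t ≤ N ⊔ zpowers t)
  have sN := hP.inf_of_normalized le_sup_left (sup_le le_normalizer (zpowers_le.2 tN))
  obtain ⟨R, hR⟩ := exists_isSylowIn 2 M
  obtain ⟨g₁, a1, a2⟩ := m.conj_Th (pM.isP_img hR.isPGroup) (pM.img_le fun x _ hx => p2 x hx.1)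
  obtain ⟨g₂, b1, b2⟩ := m.conj_Th (qM.isP_img hR.isPGroup) (qM.img_le fun x _ hx => p2 _ (conj_mem tM hx).1)
  obtain ⟨g, g1, rfl, rfl⟩ := gs g₁ a1 g₂ b1
  have RN : cj g R ≤ N := by
    rintro _ ⟨x, hx, rfl⟩
    exact (mN _).2 ⟨conj_mem (le_normalizer (GM g1)) (hR.le hx),
      (pM.conj (GM g1) (hR.le hx)).symm.subst (motive := (· ∈ Th)) (a2 (conj_mem_cj _ (pM.mem_img_of hx (hR.le hx)))),
      (qM.conj (GM g1) (hR.le hx)).symm.subst (motive := (· ∈ Th)) (b2 (conj_mem_cj _ (qM.mem_img_of hx (hR.le hx))))⟩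
  refine ⟨P ⊓ N, p, l.t_sq, tn, tM, tG, le_norm_inf (le_norm_of_le tP) (zpowers_le.2 tN) (mem_zpowers t), pM,
    fun n hn => p2 n hn.1, GM, le_norm_sup inf_le_left inf_le_right, fun x hx => ?_, gs,
    fun n hn e1 e2 => od n (kc n hn e1 e2), kc, hR.of_card_le sN.isPGroup (inf_le_right.trans NM)
      ((card_cj g R).ge.trans (sN.card_le (isPGroup_cj hR.isPGroup g) RN)), fun x hx => ((mN x).1 hx.2).2.1,
    fun n hn e1 e2 => ?_, fun x hx e1 e2 => ?_, fun c e => ?_⟩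
  · obtain ⟨a, ha, _, ⟨b, hb, rfl⟩, rfl⟩ := (mem_sup_nl (c1.trans (cent_le_norm _))).1 hx
    exact ((pr a ha b hb).1.trans (p4 a ha)).symm ▸ l.memL _ (w.mem a ha)
  · obtain ⟨s, hs, r, hr, rfl⟩ := exists_syl_mul_res sN ((mN n).2 ⟨hn, e1, e2⟩)
    have k : ∀ {f : G → Γ} (hf : MulOn M f), (∀ x ∈ N, f x ∈ Th) → f s = f (s * r) := fun hf a => by
      rw [hf s (NM hs.2) r (NM (res_le _ hr)), mem_bot.1 (hf.mem_pre.1 (res_le_of_pow (K := hf.pre ⊥) (fun x hx =>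
        (Two.of_mem m.sylh.isPGroup (a x hx)).imp fun k hk => hf.mem_pre.2 ⟨pow_mem (NM hx) _,
          (hf.pow (NM hx) _).trans hk⟩) hr)).2, mul_one]
    exact ⟨s, hs, k pM fun x hx => ((mN x).1 hx).2.1, k qM fun x hx => ((mN x).1 hx).2.2⟩
  · obtain ⟨y, hy, k1, k2⟩ := gs _ e1 _ e2
    have k := kc _ (mul_mem (inv_mem (GM hy)) (NM hx.2)) ((pM.eq_iff (GM hy) (NM hx.2)).1 k1)
      ((qM.eq_iff (GM hy) (NM hx.2)).1 k2)
    rw [← mul_inv_cancel_left y x]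
    exact Two.mem_of_mul ((mul_inv_cancel_left y x).symm ▸ .of_mem sN.isPGroup hx) (comm_of_mem k hy) (od _ k) hy
  · have k : ∀ c, c * t = t * c → cj c L₁ = L₁ → c ∈ M := fun c e a =>
      ⟨cj_eq_iff_mem.1 a, cj_eq_iff_mem.1 (by rw [← cj_mul, e, cj_mul, a])⟩
    exact (w.perm c e).imp (k c e) fun a => k _ (by rw [← mul_assoc, e]) (by rw [e, cj_mul, a, ct])

end CL.NS
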