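/-
Project NS3, job H4: the Z* theorem and the dihedral argument.
-/
import Cfsg.Agent.NS3.Basic
import Cfsg.Agent.SJ4.H0
import Cfsg.Agent.Sol.Base
import Cfsg.Agent.Inv.ZStar

set_option autoImplicit false
set_option linter.unusedSectionVars false
open Cfsg Subgroup CL.Even CL.Grp CL.Wr
open scoped commutatorElement

namespace CL.NS

universe u

namespace H4

variable {Γ : Type} [Group Γ] [Finite Γ] {d : Dat Γ} {Th : Subgroup Γ} {G : Type u} [Group G] [Finite G]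
  {t w a b x y o : G} {G₀ M₀ S₀ X : Subgroup G} {p : G → Γ}

theorem oddN (m : Base d Th) (k : Cen d) {N : Subgroup Γ} (h : N ≤ d.L ⊓ centralizer {d.z})
    (hn : d.L ⊓ centralizer {d.z} ≤ 𝒩(N)) (ho : ∀ x ∈ N, Odd (orderOf x)) {x : Γ} (hx : x ∈ N) : x = 1 := by
  have k1 : ∀ y ∈ N, y ∈ 𝒞(Jc d.L d.z) → y = 1 := fun y hy e =>
    ((k.good _ m.z_L m.z_iv k.z_J).cen y (m.L_le (h hy).1) e).2.eq_one (ho y hy)
  have k2 : ∀ y ∈ N, y ∈ Jc d.L d.z → y = 1 := fun y hy e => by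
    rcases k.ns _ (m.L_le m.z_L) m.z_iv (N ⊓ Jc d.L d.z) inf_le_right (le_norm_inf hn (Jc_norm _ _)) with h1 | ⟨v, hv, h1⟩
    · exact k1 y hy (h1 ⟨hy, e⟩)
    · exact ((m.cl_iv h1).2 ((Two.of_sq (m.cl_iv h1).1).eq_one (ho v hv.1))).elim
  refine k1 x hx (mem_cent.2 fun j hj => ?_)
  have := k2 (j * x * j⁻¹ * x⁻¹) (mul_mem (conj_mem (hn (Jc_le _ _ hj)) hx) (inv_mem hx)) (by
    rw [show j * x * j⁻¹ * x⁻¹ = j * (x * j⁻¹ * x⁻¹) by group]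
    exact mul_mem hj (conj_mem (Jc_norm _ _ (h hx)) (inv_mem hj)))
  exact commutatorElement_eq_one_iff_mul_comm.1 this

/-- an extremal conjugate -/
theorem ex {R : Subgroup G} (hS : IsSylowIn 2 R X) (ha : a ∈ 𝒞(R)) (hy : y ∈ X) :
    ∃ g ∈ X, g * (y * a * y⁻¹) * g⁻¹ = a ∧ ∀ x ∈ R, x * (y * a * y⁻¹) = y * a * y⁻¹ * x → g * x * g⁻¹ ∈ R := by
  obtain ⟨k, hk, e⟩ := syl_conj_le (hS.of_le (K := X ⊓ centralizer {a})
    (fun x hx => ⟨hS.le hx, mem_cent1.2 (comm_of_mem ha hx)⟩) inf_le_left)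
    (isPGroup_cj (hS.isPGroup.to_inf_left (K := centralizer {y * a * y⁻¹})) y⁻¹) fun x hx => by
      rw [mem_cj, inv_inv] at hx
      exact ⟨(mul_mem_cancel_left hy).1 ((mul_mem_cancel_right (inv_mem hy)).1 (hS.le hx.1)),
        mem_cent1.2 (mul_right_cancel (b := y⁻¹) (by simpa [mul_assoc] using mem_cent1.1 hx.2))⟩
  refine ⟨k * y⁻¹, mul_mem hk.1 (inv_mem hy), ?_, fun x hx h => ?_⟩
  · calc _ = k * a * k⁻¹ := by group
      _ = a := by rw [mem_cent1.1 hk.2, mul_inv_cancel_right]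
  · have := e (conj_mem_cj k (conj_mem_cj y⁻¹ (⟨hx, mem_cent1.2 h⟩ : x ∈ R ⊓ centralizer {y * a * y⁻¹})))
    simpa only [mul_assoc, mul_inv_rev] using this

variable {c : Cfg d Th t G₀ M₀ S₀ p} (m : Base d Th) (f : Fin0 c X w)
include m f

theorem w_T : w ∈ c.E d.T ⊥ := ⟨f.w_mem, f.pw ▸ m.z_mem, f.qw⟩
theorem w_R : w ∈ c.E d.T d.T := c.E_mono le_rfl bot_le (w_T m f)
theorem w_ne : w ≠ 1 := fun e => m.z_ne (by rw [← f.pw, e, c.mul.one])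
theorem w_sq : w * w = 1 := by
  rw [← pow_two]
  exact c.pow_eq_one f.w_mem (by rw [f.pw, pow_two, m.z_sq]) (by rw [f.qw, one_pow])
theorem w_cenR : w ∈ 𝒞(c.E d.T d.T) := mem_cent.2 fun x hx =>
  c.comm hx.1 f.w_mem (by rw [f.pw, m.z_T _ hx.2.1]) (by rw [f.qw, one_mul, mul_one])
theorem w2_cenR : t * w * t⁻¹ ∈ 𝒞(c.E d.T d.T) := mem_cent.2 fun x hx =>
  c.comm hx.1 (c.tS f.w_mem) (by rw [f.qw, one_mul, mul_one]) (by rw [c.tt, f.pw, m.z_T _ hx.2.2])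
theorem R_C : c.E d.T d.T ≤ X ⊓ centralizer {w * (t * w * t⁻¹)} := fun _ hx =>
  ⟨f.syl.le hx, mem_cent1.2 (comm_of_mem (mul_mem (w_cenR m f) (w2_cenR m f)) hx)⟩
theorem zh_R : w * (t * w * t⁻¹) ∈ c.E d.T d.T := mul_mem (w_R m f) (c.t_E (w_R m f))
theorem pz : p (w * (t * w * t⁻¹)) = d.z := by
  rw [c.mul _ (c.S_le f.w_mem) _ (c.tM (c.S_le f.w_mem)), f.pw, f.qw, mul_one]
theorem tz : t * (w * (t * w * t⁻¹)) * t⁻¹ = w * (t * w * t⁻¹) := by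
  rw [← conj_mul, c.tt, comm_of_mem (w_cenR m f) (c.t_E (w_R m f))]
theorem tC : t ∈ 𝒩(X ⊓ centralizer {w * (t * w * t⁻¹)}) := mem_norm_of fun x hx =>
  ⟨f.normal.conj_mem x hx.1 t, mem_cent1.2 (by rw [← tz m f, conj_mul, conj_mul, mem_cent1.1 hx.2])⟩

variable (k : Cen d)
include k

theorem p_one (ho : o ∈ pPrimeCoreOf 2 (X ⊓ centralizer {w * (t * w * t⁻¹)})) (h : o ∈ M₀) : p o = 1 := by
  have zM := c.S_le (zh_R m f).1
  have od : ∀ x ∈ c.mul.img (pPrimeCoreOf 2 (X ⊓ centralizer {w * (t * w * t⁻¹)})), Odd (orderOf x) := fun x hx => by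
    obtain ⟨x, h1, h2, rfl⟩ := c.mul.mem_img.1 hx
    exact (CL.Sol.odd_of_core h1).of_dvd_nat (orderOf_dvd_of_pow_eq_one (by
      rw [← c.mul.pow h2, pow_orderOf_eq_one, c.mul.one]))
  refine oddN m k (c.mul.img_le fun x h1 h2 => ⟨CL.Sol.mem_of_sq (od _ (c.mul.mem_img_of h1 h2)) (m.sq_mem (c.mem x h2)),
    mem_cent1.2 (pz m f ▸ c.mul.mul_comm h2 zM (mem_cent1.1 (pPrimeCoreOf_le 2 _ h1).2))⟩) (fun a ha => ?_) od
    (c.mul.mem_img_of ho h)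
  obtain ⟨x, hx, rfl, e⟩ := c.G_surj a ha.1 1 (one_mem _)
  have xM := c.G_le hx
  have z2 := c.two (zh_R m f).1
  refine c.mul.img_norm xM (le_normalizer_pPrimeCoreOf 2 _ ⟨f.G_le hx, mem_cent1.2 (mul_inv_eq_iff_eq_mul.1
    (c.two_eq (conj_mem (c.G_norm xM) (c.E_G m.T_le_L m.T_le_L (zh_R m f))) zM (z2.conj x) z2 ?_ ?_))⟩)
  · rw [c.mul.conj xM zM, pz m f, mem_cent1.1 ha.2, mul_inv_cancel_right]
  · rw [c.mulq.conj xM zM, e, one_mul, inv_one, mul_one]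

theorem cen_t (ho : o ∈ pPrimeCoreOf 2 (X ⊓ centralizer {w * (t * w * t⁻¹)})) (h : o * t = t * o) : o ∈ 𝒞(G₀) := by
  have oM : o ∈ M₀ := (c.cent o h).elim id fun e => CL.Sol.mem_of_sq (CL.Sol.odd_of_core ho) (by
    have := mul_mem e e
    rwa [mul_assoc, ← mul_assoc t, ← h, mul_assoc, c.t_sq, mul_one] at this)
  exact c.ker_cen o oM (p_one m f k ho oM)
    (p_one m f k (conj_mem (normalizer_le_normalizer_pPrimeCoreOf 2 _ (tC m f)) ho) (c.tM oM))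

theorem w_cen : w ∈ 𝒞(pPrimeCoreOf 2 (X ⊓ centralizer {w * (t * w * t⁻¹)})) := by
  have n : X ⊓ centralizer {w * (t * w * t⁻¹)} ≤ 𝒩(pPrimeCoreOf 2 (X ⊓ centralizer {w * (t * w * t⁻¹)})) :=
    le_normalizer_pPrimeCoreOf 2 _
  obtain ⟨q, hq, v, hv, vv, e⟩ := m.qv
  obtain ⟨q, qS, rfl, q1⟩ := exists_E c m hq (one_mem _)
  obtain ⟨v, vS, rfl, v1⟩ := exists_E c m hv (one_mem _)
  have vM := c.S_le vS
  have vR : v ∈ c.E d.T d.T := ⟨vS, hv, v1 ▸ one_mem _⟩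
  have hR := mul_mem vR (c.t_E vR)
  have hG := c.E_G m.T_le_L m.T_le_L
  have v2 : v * v = 1 := by
    rw [← pow_two]; exact c.pow_eq_one vS (by rw [pow_two, vv]) (by rw [v1, one_pow])
  have cm : v * (t * v * t⁻¹) = t * v * t⁻¹ * v :=
    c.comm vS (c.tS vS) (by rw [v1, one_mul, mul_one]) (by rw [v1, one_mul, mul_one])
  have ph : p (v * (t * v * t⁻¹)) = p v := by rw [c.mul _ vM _ (c.tM vM), v1, mul_one]
  have e1 : v * t * v⁻¹ = v * (t * v * t⁻¹) * t := by rw [inv_eq_of_sq v2]; group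
  have key := CL.Sol.fg (H := centralizer {v * (t * v * t⁻¹)}) (a := v * (t * v * t⁻¹))
    (by rw [mul_assoc, ← mul_assoc _ v, ← cm, mul_assoc v, CL.Sol.sq_conj v2, mul_one, v2]) c.t_sq
    (by rw [← mul_inv_eq_iff_eq_mul.1 (show t * (v * (t * v * t⁻¹)) * t⁻¹ = _ by rw [← conj_mul, c.tt, ← cm])])
    (fun h => m.z_ne (by rw [← e, ← ph, h, c.mul.one, commutatorElement_one_right]))
    (fun h => c.t_not (h ▸ one_mem _)) (fun h => c.t_not (h ▸ c.S_le hR.1)) (CL.Sol.odd_core _) (n (R_C m f hR))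
    (normalizer_le_normalizer_pPrimeCoreOf 2 _ (tC m f)) inf_le_right
    (fun o ho => mem_cent1.2 (comm_of_mem (cen_t m f k ho.1 (mem_cent1.1 ho.2)) (hG hR)).symm) fun o ho => by
      have h1 := cen_t m f k (conj_mem' (n (R_C m f vR)) ho.1) (by
        calc v⁻¹ * o * v * t = v⁻¹ * (o * (v * t * v⁻¹)) * v := by group
          _ = _ := by rw [e1, mem_cent1.1 ho.2, ← e1]; group)
      have h2 := conj_mem (norm_le_norm_cent _ (c.G_norm vM)) h1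
      exact mem_cent1.2 (comm_of_mem (by simpa only [mul_assoc, mul_inv_cancel_left, mul_inv_cancel, mul_one] using h2)
        (hG hR)).symm
  have h1 : v * (t * v * t⁻¹) ∈ 𝒞(pPrimeCoreOf 2 (X ⊓ centralizer {w * (t * w * t⁻¹)})) :=
    mem_cent.2 fun o ho => mem_cent1.1 (key ho)
  have := mul_mem (conj_mem (norm_le_norm_cent _ (n (R_C m f ⟨qS, hq, q1 ▸ one_mem _⟩))) h1) (inv_mem h1)
  rwa [c.inj (y := w) (mul_mem (mul_mem (mul_mem qS hR.1) (inv_mem qS)) (inv_mem hR.1)) f.w_mem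
    (by rw [← commutatorElement_def, c.mul.comm (c.S_le qS) (c.S_le hR.1), ph, e, f.pw])
    (by rw [← commutatorElement_def, c.mulq.comm (c.S_le qS) (c.S_le hR.1), q1, commutatorElement_one_left, f.qw])]
    at this

omit k
variable (hF : ∀ g ∈ X, g * w * g⁻¹ ∈ c.E d.T d.T → g * w * g⁻¹ ∈ c.E d.T ⊥)
include hF

theorem fus2 (hx : x ∈ X) (h : x * (t * w * t⁻¹) * x⁻¹ ∈ c.E d.T d.T) : x * (t * w * t⁻¹) * x⁻¹ ∈ c.E ⊥ d.T := by
  have e : t * x * t⁻¹ * w * (t * x * t⁻¹)⁻¹ = t * (x * (t * w * t⁻¹) * x⁻¹) * t⁻¹ := by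
    nth_rw 1 [← c.tt w]; group
  have := c.t_E (hF _ (f.normal.conj_mem x hx t) (e ▸ c.t_E h))
  rwa [e, c.tt] at this

theorem fix (hc : x ∈ X ⊓ centralizer {w * (t * w * t⁻¹)}) (h : x * w * x⁻¹ ∈ c.E d.T d.T) : x * w * x⁻¹ = w := by
  have e : x * w * x⁻¹ * (x * (t * w * t⁻¹) * x⁻¹) = w * (t * w * t⁻¹) := by
    rw [conj_mul, mem_cent1.1 hc.2, mul_inv_cancel_right]
  have h2 := fus2 m f hF hc.1 ((mul_mem_cancel_left h).1 (e ▸ zh_R m f))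
  refine c.inj h.1 f.w_mem ?_ ((mem_bot.1 (hF x hc.1 h).2.2).trans f.qw.symm)
  rw [f.pw, ← pz m f, ← e, c.mul _ (c.S_le h.1) _ (c.S_le h2.1), mem_bot.1 h2.2.1, mul_one]

theorem cen (k : Cen d) (hc : x ∈ X ⊓ centralizer {w * (t * w * t⁻¹)}) : x * w = w * x := by
  have wC := R_C m f (w_R m f)
  have ww := w_sq m f
  have iso : IsIsolatedInvolution (⟨w, wC⟩ : (X ⊓ centralizer {w * (t * w * t⁻¹)} : Subgroup G)) :=
    ⟨CL.Inv.SE.inv_of_mul_self (Subtype.ext ww) fun e => w_ne m f (congrArg Subtype.val e), fun k hk => by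
      have hk : Commute w (k * w * (k : G)⁻¹) := congrArg Subtype.val hk
      have s := CL.Sol.sq_conj ww (k : G)
      obtain ⟨c, hc, h1, h2⟩ := CL.SJ.H0.conj_pair (f.syl.of_le (R_C m f) inf_le_left) ww s
        ((Two.of_sq ww).mul (.of_sq s) hk) wC (mul_mem (mul_mem k.2 wC) (inv_mem k.2))
      have h3 := fix m f hF (mul_mem hc k.2) (by simpa only [mul_assoc, mul_inv_rev] using h2)
      refine Subtype.ext (mul_left_cancel (a := c) (mul_right_cancel (b := c⁻¹) ?_))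
      rw [fix m f hF hc h1]
      simpa only [coe_mul, coe_inv, mul_assoc, mul_inv_rev] using h3⟩
  have ho : w * x * w⁻¹ * x⁻¹ ∈ pPrimeCoreOf 2 (X ⊓ centralizer {w * (t * w * t⁻¹)}) :=
    ⟨_, CL.Inv.zstar_mem_oddCore iso ⟨x, hc⟩, rfl⟩
  have e : w * x * w⁻¹ * x⁻¹ = w * (x * w * x⁻¹) := by rw [inv_eq_of_sq ww]; group
  have h1 : Commute w (x * w * x⁻¹) := by
    have := comm_of_mem (w_cen m f k) ho
    rw [e, mul_assoc] at this
    exact (mul_left_cancel this).symm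
  have := CL.Sol.one_of_core ho (e ▸ (Two.of_sq ww).mul (.of_sq (CL.Sol.sq_conj ww x)) h1)
  exact (commutatorElement_eq_one_iff_mul_comm.1 this).symm

/-- an element of `X` which maps `T₁` into `R` centralises `w` -/
theorem fix1 (hx : x ∈ X) (h : ∀ a ∈ c.E d.T ⊥, x * a * x⁻¹ ∈ c.E d.T d.T) : x * w * x⁻¹ = w := by
  have h1 := hF x hx (h w (w_T m f))
  have n : x⁻¹ ∈ 𝒩(centralizer {a | a ∈ c.E d.T ⊥ ∧ ∃ g ∈ X, a = g * w * g⁻¹}) := mem_norm_of fun y hy a ha => by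
    obtain ⟨h2, g, hg, rfl⟩ := ha
    have e : x * (g * w * g⁻¹) * x⁻¹ = x * g * w * (x * g)⁻¹ := by group
    have := hy _ ⟨hF _ (mul_mem hx hg) (e ▸ h _ h2), _, mul_mem hx hg, rfl⟩
    calc _ = x⁻¹ * (x * g * w * (x * g)⁻¹ * y) * x := by group
      _ = _ := by rw [this]; group
  have h2 := conj_mem' n (x := w) fun a ha => comm_of_mem (w_cenR m f) (c.E_mono le_rfl bot_le ha.1)
  rw [inv_inv] at h2
  have h3 := m.cenO _ h1.2.1 fun y hy ⟨g, hg, e⟩ => by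
    obtain ⟨y, yS, rfl, y1⟩ := exists_E c m hy (one_mem _)
    obtain ⟨g, gG, rfl, g1⟩ := c.G_surj g hg 1 (one_mem _)
    have gM := c.G_le gG
    have wM := c.S_le f.w_mem
    refine (c.mul.mul_comm (c.S_le yS) (c.S_le h1.1) (h2 y ⟨⟨yS, hy, y1⟩, g, f.G_le gG, (c.two_eq (conj_mem (c.G_norm gM)
      (c.E_G m.T_le_L m.T_le_L (w_R m f))) (c.S_le yS) ((c.two f.w_mem).conj g) (c.two yS) ?_ ?_).symm⟩)).symm
    · rw [c.mul.conj gM wM, f.pw, e]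
    · rw [c.mulq.conj gM wM, f.qw, y1, mul_one, mul_inv_cancel]
  rcases h3 with e | e
  · exact (CL.Sol.conj_ne_one (w_ne m f) x (c.eq_one (c.S_le h1.1) (c.two h1.1) e h1.2.2)).elim
  · exact c.inj h1.1 f.w_mem (e.trans f.pw.symm) ((mem_bot.1 h1.2.2).trans f.qw.symm)

theorem comm (k : Cen d) (hy : y ∈ X) : y * (t * w * t⁻¹) * y⁻¹ * w = w * (y * (t * w * t⁻¹) * y⁻¹) := by
  have wX := f.syl.le (w_R m f)
  have ww := w_sq m f
  have bb := CL.Sol.sq_conj (CL.Sol.sq_conj ww t) y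
  have bX : y * (t * w * t⁻¹) * y⁻¹ ∈ X := mul_mem (mul_mem hy (f.normal.conj_mem w wX t)) (inv_mem hy)
  obtain ⟨j, h2, e⟩ := CL.SJ.H0.dih ww bb
  generalize hb : y * (t * w * t⁻¹) * y⁻¹ = b at *
  have rX := X.pow_mem (mul_mem wX bX) j
  have e0 : b * (w * b) * b⁻¹ = (w * b)⁻¹ := by
    rw [mul_inv_rev, inv_eq_of_sq ww, inv_eq_of_sq bb, mul_assoc, mul_assoc, bb, mul_one]
  have e1 : b * (w * b) ^ (2 * j + 1) * b⁻¹ = ((w * b) ^ (2 * j + 1))⁻¹ := by rw [← conj_pow, e0, inv_pow]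
  generalize (w * b) ^ j = r at e rX
  generalize (w * b) ^ (2 * j + 1) = s at *
  have e2 : w * (r⁻¹ * b * r) = s := by rw [← e, ← mul_assoc, ww, one_mul]
  obtain ⟨c₁, hc, h3, h4⟩ := CL.SJ.H0.conj_pair f.syl ww (by simpa using CL.Sol.sq_conj bb r⁻¹) (e2 ▸ h2) wX
    (mul_mem (mul_mem (inv_mem rX) bX) rX)
  have cm : ∀ a ∈ c.E d.T ⊥, ∀ b ∈ c.E ⊥ d.T, a * b = b * a := fun a ha b hb =>
    c.comm ha.1 hb.1 (by rw [mem_bot.1 hb.2.1, one_mul, mul_one]) (by rw [mem_bot.1 ha.2.2, one_mul, mul_one])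
  have e4 : c₁ * r⁻¹ * y * (t * w * t⁻¹) * (c₁ * r⁻¹ * y)⁻¹ = c₁ * (r⁻¹ * b * r) * c₁⁻¹ := by rw [← hb]; group
  have y1 := mul_mem (mul_mem hc (inv_mem rX)) hy
  obtain ⟨g, hg, g1, g2⟩ := ex f.syl (w_cenR m f) hc
  have h5 := g2 _ h4 (cm _ (hF _ hc h3) _ (e4 ▸ fus2 m f hF y1 (e4 ▸ h4))).symm
  have e5 : g * (c₁ * r⁻¹ * y) * (t * w * t⁻¹) * (g * (c₁ * r⁻¹ * y))⁻¹ = g * (c₁ * (r⁻¹ * b * r) * c₁⁻¹) * g⁻¹ := by
    rw [← hb]; group
  obtain ⟨l, hl, l1, l2⟩ := ex f.syl (w2_cenR m f) (mul_mem hg y1)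
  have l3 := fix1 m f hF hl fun a ha => l2 a (c.E_mono le_rfl bot_le ha)
    (cm a ha _ (fus2 m f hF (mul_mem hg y1) (e5 ▸ h5)))
  obtain ⟨q, hq, p1, p2⟩ : ∃ q ∈ X, q * w * q⁻¹ = w ∧ q * s * q⁻¹ = w * (t * w * t⁻¹) := by
    have k1 : l * g * c₁ * w * (l * g * c₁)⁻¹ = w := by
      calc _ = l * (g * (c₁ * w * c₁⁻¹) * g⁻¹) * l⁻¹ := by group
        _ = w := by rw [g1, l3]
    refine ⟨_, mul_mem (mul_mem hl hg) hc, k1, ?_⟩
    rw [← e2, ← conj_mul, k1, ← l1, e5]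
    group
  have s2 : s * s = 1 := by
    have : q * s * q⁻¹ * (q * s * q⁻¹) = 1 := by
      rw [p2, mul_assoc, ← mul_assoc _ w, comm_of_mem (w_cenR m f) (c.t_E (w_R m f)), mul_assoc w,
        CL.Sol.sq_conj ww, mul_one, ww]
    simpa [conj_mul] using this
  rw [inv_eq_of_sq s2] at e1
  have := cen m f hF k (x := q * b * q⁻¹) ⟨X.mul_mem (mul_mem hq bX) (inv_mem hq), mem_cent1.2 (by
    rw [← p2, conj_mul, conj_mul, mul_inv_eq_iff_eq_mul.1 e1])⟩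
  rw [← p1, conj_mul, conj_mul] at this
  simpa using this

end H4

open H4 in
theorem h4B (_ : H2B.{u}) : H4B.{u} := by
  intro Γ _ _ d Th G _ _ t G₀ M₀ S₀ p c X w m k f hX hF
  have wX := f.syl.le (w_R m f)
  rcases (inferInstance : (centralizer (normalClosure {(⟨_, f.normal.conj_mem w wX t⟩ : X)} : Set X)).Normal).eq_bot_or_eq_top
    with e | e
  · refine w_ne m f (congrArg Subtype.val (mem_bot.1 (e.le (?_ : (⟨w, wX⟩ : X) ∈ _))))
    rw [normalClosure, centralizer_closure, mem_centralizer_iff]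
    intro a ha
    obtain ⟨_, rfl, ha⟩ := Group.mem_conjugatesOfSet_iff.1 ha
    obtain ⟨y, rfl⟩ := isConj_iff.1 ha
    exact Subtype.ext (comm m f hF k y.2)
  · refine m.z_ne (m.cL _ (m.L_le m.z_L) (mem_cent.2 fun a ha => ?_))
    obtain ⟨l, hl, rfl, -⟩ := c.G_surj a ha 1 (one_mem _)
    have h1 := congrArg Subtype.val (mem_centralizer_iff.1 (e.ge (mem_top ⟨_, f.G_le (c.tG hl)⟩)) _
      (subset_normalClosure (Set.mem_singleton _)))
    simp only [coe_mul, conj_mul] at h1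
    rw [← f.pw]
    exact c.mul.mul_comm (c.G_le hl) (c.S_le f.w_mem) (by simpa using h1.symm)

end CL.NS
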